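import Groth.Agent.NodeDomLib.Series
import Groth.Agent.DvrDom.Basic
import Mathlib.RingTheory.AdjoinRoot
import Mathlib.RingTheory.Polynomial.Eisenstein.Basic
import Mathlib.RingTheory.AdicCompletion.Basic
import Mathlib.RingTheory.Ideal.KrullsHeightTheorem
import Mathlib.RingTheory.Filtration
import Mathlib.Algebra.MvPolynomial.Division

/-! Primality and fibral height one primes of `D[[x,y]]/(xy - r)`. -/

set_option autoImplicit false

universe u

namespace NodeDomLib

open MvPowerSeries IsLocalRing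

theorem exists_ser {R : Type u} [CommRing R] [IsLocalRing R] [IsAdicComplete (maximalIdeal R) R] {r : R}
    (hr : r ∈ maximalIdeal R) : ∃ ser : (ℕ → R) → R, IsSer r ser := by
  have hstep : ∀ (c : ℕ → R) {M N : ℕ}, M ≤ N →
      (∑ k ∈ Finset.range N, c k * r ^ k) - ∑ k ∈ Finset.range M, c k * r ^ k ∈ maximalIdeal R ^ M := by
    intro c M N h
    rw [← Finset.sum_Ico_eq_sub _ h]
    exact Ideal.sum_mem _ fun k hk => Ideal.mul_mem_left _ _
      (Ideal.pow_le_pow_right (Finset.mem_Ico.1 hk).1 (Ideal.pow_mem_pow hr k))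
  have hlim : ∀ c : ℕ → R, ∃ L, ∀ N, (∑ k ∈ Finset.range N, c k * r ^ k) - L ∈ maximalIdeal R ^ N := by
    intro c
    obtain ⟨L, hL⟩ := IsPrecomplete.prec' (I := maximalIdeal R) (fun N => ∑ k ∈ Finset.range N, c k * r ^ k)
      (fun {M N} h => by
        rw [SModEq.sub_mem, smul_eq_mul, Ideal.mul_top]
        simpa using neg_mem (hstep c h))
    exact ⟨L, fun N => by have := SModEq.sub_mem.1 (hL N); rwa [smul_eq_mul, Ideal.mul_top] at this⟩
  choose ser hser using hlim
  refine ⟨ser, fun c => sub_eq_zero.1 (IsHausdorff.haus' (I := maximalIdeal R) _ fun N => ?_)⟩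
  rw [SModEq.zero, smul_eq_mul, Ideal.mul_top]
  have h1 := hser c (N + 1)
  have h2 := hser (fun k => c (k + 1)) N
  have h3 : ∑ k ∈ Finset.range N, c (k + 1) * r ^ (k + 1) = r * ∑ k ∈ Finset.range N, c (k + 1) * r ^ k := by
    rw [Finset.mul_sum]; exact Finset.sum_congr rfl fun k _ => by ring
  rw [Finset.sum_range_succ', h3, pow_zero, mul_one] at h1
  have := sub_mem (Ideal.mul_mem_left _ r h2) (Ideal.pow_le_pow_right (Nat.le_succ N) h1)
  convert this using 1
  ring

theorem exists_ram {D : Type u} [CommRing D] [IsDomain D] [IsNoetherianRing D] [IsLocalRing D] {r : D}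
    (hr : r ∈ maximalIdeal D) (hr0 : r ≠ 0) :
    ∃ (W : Type u) (_ : CommRing W) (_ : IsDomain W) (φ : D →+* W) (ρ σ : W),
      Function.Injective φ ∧ Prime ρ ∧ ρ ∣ σ ∧ σ ≠ 0 ∧ φ r = ρ * σ ∧ ∀ x : W, (∀ N, ρ ^ N ∣ x) → x = 0 := by
  classical
  let L := FractionRing D
  have hker : RingHom.ker (algebraMap D L) ≤ maximalIdeal D := by
    rw [(RingHom.injective_iff_ker_eq_bot _).1 (IsFractionRing.injective D L)]
    exact bot_le
  have hne : ∃ a ∈ maximalIdeal D, algebraMap D L a ≠ 0 :=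
    ⟨r, hr, (map_ne_zero_iff _ (IsFractionRing.injective D L)).2 hr0⟩
  obtain ⟨V, hV, hmem, hval⟩ := DvrDomLib.exists_dvr_dominating (L := L) (maximalIdeal D) hker hne ∅ (by
    rw [eq_top_iff]
    intro z _
    obtain ⟨a, b, _, rfl⟩ := IsFractionRing.div_surjective D z
    exact div_mem (Subfield.subset_closure (Or.inl ⟨a, rfl⟩)) (Subfield.subset_closure (Or.inl ⟨b, rfl⟩)))
  let ι : D →+* V := (algebraMap D L).codRestrict V.toSubring hmem
  have hι : Function.Injective ι := fun a b h => IsFractionRing.injective D L (congrArg Subtype.val h)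
  obtain ⟨π, hπ⟩ := IsDiscreteValuationRing.exists_irreducible V
  have hιr : ι r ∈ maximalIdeal V := (V.valuation_lt_one_iff _).2 ((hval r).2 hr)
  rw [hπ.maximalIdeal_eq, Ideal.mem_span_singleton] at hιr
  obtain ⟨c, hc⟩ := hιr
  let F : Polynomial V := Polynomial.X ^ 2 - Polynomial.C π
  have hmon : F.Monic := Polynomial.monic_X_pow_sub_C π (by norm_num)
  have hdeg : F.natDegree = 2 := Polynomial.natDegree_X_pow_sub_C
  have hP : (Ideal.span {π}).IsPrime := (Ideal.span_singleton_prime hπ.ne_zero).2 hπ.prime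
  have hF : Irreducible F := by
    refine Polynomial.IsEisensteinAt.irreducible (𝓟 := Ideal.span {π}) ⟨?_, ?_, ?_⟩ hP hmon.isPrimitive
      (by omega)
    · rw [hmon.leadingCoeff, ← Ideal.eq_top_iff_one]; exact hP.ne_top
    · intro n hn
      rw [hdeg] at hn
      rw [Ideal.mem_span_singleton]
      interval_cases n <;> simp [F, Polynomial.coeff_X_pow, Polynomial.coeff_C]
    · simp only [F, Polynomial.coeff_sub, Polynomial.coeff_X_pow, Polynomial.coeff_C_zero]
      rw [if_neg (by norm_num), zero_sub, neg_mem_iff, Ideal.span_singleton_pow, Ideal.mem_span_singleton]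
      rintro ⟨d, hd⟩
      refine hπ.not_isUnit (IsUnit.of_mul_eq_one d ?_)
      refine mul_left_cancel₀ hπ.ne_zero ?_
      linear_combination -hd
  haveI : IsDomain (AdjoinRoot F) := AdjoinRoot.isDomain_of_prime hF.prime
  let ρ : AdjoinRoot F := AdjoinRoot.root F
  let φ : D →+* AdjoinRoot F := (AdjoinRoot.of F).comp ι
  have hinj : Function.Injective (AdjoinRoot.of F) :=
    AdjoinRoot.of.injective_of_degree_ne_zero (by
      rw [Polynomial.degree_eq_natDegree hmon.ne_zero, hdeg]; norm_num)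
  have hρ2 : ρ ^ 2 = AdjoinRoot.of F π := by
    have := AdjoinRoot.eval₂_root F
    simpa [F, sub_eq_zero] using this
  have hρ0 : ρ ≠ 0 := fun h => (map_ne_zero_iff _ hinj).2 hπ.ne_zero (by rw [← hρ2, h]; ring)
  let ψ : AdjoinRoot F →+* ResidueField V := AdjoinRoot.lift (residue V) 0 (by
    have hm : π ∈ maximalIdeal V := hπ.not_isUnit
    simp [F, (residue_eq_zero_iff π).2 hm])
  have hψρ : ψ ρ = 0 := AdjoinRoot.lift_root _
  have hkerψ : ∀ x, ψ x = 0 → ρ ∣ x := by
    intro x hx
    obtain ⟨p, rfl⟩ := AdjoinRoot.mk_surjective x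
    have hp : p = Polynomial.X * p.divX + Polynomial.C (p.coeff 0) := (Polynomial.X_mul_divX_add p).symm
    rw [hp, map_add, map_mul, AdjoinRoot.mk_X, AdjoinRoot.mk_C] at hx ⊢
    rw [map_add, map_mul, show ψ (AdjoinRoot.root F) = 0 from hψρ, zero_mul, zero_add, AdjoinRoot.lift_of,
      residue_eq_zero_iff, hπ.maximalIdeal_eq, Ideal.mem_span_singleton] at hx
    obtain ⟨d, hd⟩ := hx
    refine dvd_add (Dvd.intro _ rfl) ?_
    rw [hd, map_mul, ← hρ2, pow_two, mul_assoc]
    exact Dvd.intro _ rfl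
  have hρ : Prime ρ := by
    refine ⟨hρ0, fun h => ?_, fun a b h => ?_⟩
    · exact (h.map ψ).ne_zero hψρ
    · obtain ⟨z, hz⟩ := h
      have : ψ a * ψ b = 0 := by rw [← map_mul, hz, map_mul, hψρ, zero_mul]
      exact (mul_eq_zero.1 this).imp (hkerψ a) (hkerψ b)
  haveI : IsNoetherianRing (AdjoinRoot F) := isNoetherianRing_of_surjective _ _ _ AdjoinRoot.mk_surjective
  have hφ : Function.Injective φ := hinj.comp hι
  have hφr : φ r = ρ * (ρ * AdjoinRoot.of F c) := by
    show AdjoinRoot.of F (ι r) = _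
    rw [hc, map_mul, ← hρ2]; ring
  refine ⟨AdjoinRoot F, inferInstance, inferInstance, φ, ρ, ρ * AdjoinRoot.of F c, hφ, hρ, Dvd.intro _ rfl,
    fun h => (map_ne_zero_iff φ hφ).2 hr0 (by rw [hφr, h, mul_zero]), hφr, fun x hx => ?_⟩
  have hbot := Ideal.iInf_pow_eq_bot_of_isDomain (Ideal.span {ρ})
    (by rw [Ne, Ideal.span_singleton_eq_top]; exact hρ.not_unit)
  have : x ∈ ⨅ N : ℕ, Ideal.span {ρ} ^ N := Ideal.mem_iInf.2 fun N => by
    rw [Ideal.span_singleton_pow, Ideal.mem_span_singleton]; exact hx N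
  rwa [hbot] at this

theorem rel_span_isPrime {D : Type u} [CommRing D] [IsDomain D] [IsNoetherianRing D] [IsLocalRing D] {r : D}
    (hr : r ∈ maximalIdeal D) (hr0 : r ≠ 0) {ser : (ℕ → D) → D} (hser : IsSer r ser) :
    (Ideal.span {rel r}).IsPrime := by
  obtain ⟨W, _, _, φ, ρ, σ, hφ, hρ, hρσ, hσ, hφr, hsep⟩ := exists_ram hr hr0
  exact span_rel_isPrime φ hφ hρ hρσ hσ hφr hsep hser

theorem sep_of_mem {D : Type u} [CommRing D] [IsNoetherianRing D] [IsLocalRing D] {r : D}
    (hr : r ∈ maximalIdeal D) (x : D) (hx : ∀ k, r ^ k ∣ x) : x = 0 := by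
  have hbot := Ideal.iInf_pow_eq_bot_of_isLocalRing (maximalIdeal D) (Ideal.IsPrime.ne_top inferInstance)
  have : x ∈ ⨅ k : ℕ, maximalIdeal D ^ k := Ideal.mem_iInf.2 fun k => by
    obtain ⟨d, rfl⟩ := hx k
    exact Ideal.mul_mem_right _ _ (Ideal.pow_mem_pow hr k)
  rwa [hbot] at this

section Branch

variable {R : Type u} [CommRing R] {D : Type u} [CommRing D] (q : R →+* D)

noncomputable def axisHom (i : Fin 2) : PS R →+* PowerSeries D where
  toFun f := PowerSeries.mk fun n => q (coeff (Finsupp.single i n) f)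
  map_one' := by
    classical
    ext n
    rw [PowerSeries.coeff_mk, PowerSeries.coeff_one, coeff_one]
    by_cases hn : n = 0
    · simp [hn]
    · simp [hn]
  map_mul' f g := by
    classical
    ext n
    rw [PowerSeries.coeff_mk, coeff_mul, PowerSeries.coeff_mul, map_sum, Finsupp.antidiagonal_single, Finset.sum_map]
    exact Finset.sum_congr rfl fun p _ => by simp
  map_zero' := by ext n; simp
  map_add' f g := by ext n; simp

theorem coeff_axisHom (i : Fin 2) (n : ℕ) (f : PS R) :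
    PowerSeries.coeff n (axisHom q i f) = q (coeff (Finsupp.single i n) f) := by
  show PowerSeries.coeff n (PowerSeries.mk fun n => q (coeff (Finsupp.single i n) f)) = _
  rw [PowerSeries.coeff_mk]

theorem axisHom_X_self (i : Fin 2) : axisHom q i (X i) = PowerSeries.X := by
  classical
  ext n
  rw [coeff_axisHom, PowerSeries.coeff_X, coeff_X]
  by_cases hn : n = 1
  · simp [hn]
  · simp [hn, Finsupp.single_eq_single_iff]

theorem single_eta {i j : Fin 2} (hij : i ≠ j) {d : Fin 2 →₀ ℕ} (hd : d j = 0) :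
    d = Finsupp.single i (d i) := by
  ext k
  by_cases hk : k = i
  · subst hk; simp
  · rw [Finsupp.single_eq_of_ne hk, show k = j from by omega, hd]

variable {q} {p : R} (hq : ∀ x, q x = 0 ↔ p ∣ x)

include hq

theorem ker_axisHom {i j : Fin 2} (hij : i ≠ j) :
    RingHom.ker (axisHom q i) = Ideal.span {(C p : PS R), X j} := by
  classical
  refine le_antisymm (fun f hf => ?_) ?_
  · have hdiv : ∀ n, p ∣ coeff (Finsupp.single i n) f := fun n => by
      rw [← hq, ← coeff_axisHom, (RingHom.mem_ker).1 hf, map_zero]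
    choose l hl using hdiv
    let F : PS R := fun d => l (d i)
    obtain ⟨h, hh⟩ : (X j : PS R) ∣ f - C p * F := by
      rw [X_dvd_iff]
      intro d hd
      rw [map_sub, coeff_C_mul, sub_eq_zero]
      show coeff d f = p * l (d i)
      rw [← hl, ← single_eta hij hd]
    rw [Ideal.mem_span_pair]
    exact ⟨F, h, by linear_combination -hh⟩
  · rw [Ideal.span_le]
    rintro x (rfl | rfl) <;> rw [SetLike.mem_coe, RingHom.mem_ker] <;> ext n <;>
      rw [coeff_axisHom, map_zero]
    · rw [hq, coeff_C]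
      split_ifs
      · exact dvd_rfl
      · exact dvd_zero _
    · rw [coeff_X, if_neg, map_zero]
      intro h
      rcases Finsupp.single_eq_single_iff _ _ _ _ |>.1 h with ⟨h, _⟩ | ⟨_, h⟩
      · exact hij h
      · exact one_ne_zero h

theorem poly_mem_branch {i j : Fin 2} (hij : i ≠ j) (f : MvPolynomial (Fin 2) R)
    (hf : (f : PS R) ∈ Ideal.span {(C p : PS R), X j}) :
    f ∈ Ideal.span {(MvPolynomial.C p : MvPolynomial (Fin 2) R), MvPolynomial.X j} := by
  classical
  rw [← ker_axisHom hq hij, RingHom.mem_ker] at hf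
  rw [f.as_sum]
  refine Ideal.sum_mem _ fun d _ => ?_
  by_cases hd : d j = 0
  · have : q (f.coeff d) = 0 := by
      rw [single_eta hij hd, ← MvPolynomial.coeff_coe, ← coeff_axisHom, hf, map_zero]
    obtain ⟨c, hc⟩ := (hq _).1 this
    rw [hc, ← MvPolynomial.C_mul_monomial]
    exact Ideal.mul_mem_right _ _ (Ideal.subset_span (Or.inl rfl))
  · obtain ⟨z, hz⟩ : (MvPolynomial.X j : MvPolynomial (Fin 2) R) ∣ MvPolynomial.monomial d (f.coeff d) :=
      MvPolynomial.X_dvd_monomial.2 (Or.inr hd)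
    rw [hz]
    exact Ideal.mul_mem_right _ _ (Ideal.subset_span (Or.inr rfl))

theorem ker_map_series : RingHom.ker (MvPowerSeries.map (σ := Fin 2) q) = Ideal.span {(C p : PS R)} := by
  refine le_antisymm (fun f hf => ?_) ?_
  · have hdiv : ∀ d, p ∣ coeff d f := fun d => by
      rw [← hq, ← coeff_map, (RingHom.mem_ker).1 hf, map_zero]
    choose l hl using hdiv
    exact Ideal.mem_span_singleton.2 ⟨l, MvPowerSeries.ext fun d => by rw [coeff_C_mul]; exact hl d⟩
  · rw [Ideal.span_le, Set.singleton_subset_iff, SetLike.mem_coe, RingHom.mem_ker, map_C, (hq p).2 dvd_rfl,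
      map_zero]

omit hq in
theorem map_rel (r : R) : MvPowerSeries.map (σ := Fin 2) q (rel r) = rel (q r) := by
  rw [rel, map_sub, map_mul, map_X, map_X, map_C]

theorem series_span_eq (hsurj : Function.Surjective q) (r : R) :
    (Ideal.span {rel (q r)}).comap (MvPowerSeries.map (σ := Fin 2) q) =
      Ideal.span {(C p : PS R)} ⊔ Ideal.span {rel r} := by
  have hs : Function.Surjective (MvPowerSeries.map (σ := Fin 2) q) := fun g =>
    ⟨fun d => Function.surjInv hsurj (coeff d g), MvPowerSeries.ext fun d => by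
      rw [coeff_map]; exact Function.surjInv_eq hsurj _⟩
  rw [show Ideal.span {rel (q r)} = (Ideal.span {rel r}).map (MvPowerSeries.map (σ := Fin 2) q) by
      rw [Ideal.map_span, Set.image_singleton, map_rel], Ideal.comap_map_of_surjective _ hs,
    ← RingHom.ker_eq_comap_bot, ker_map_series hq, sup_comm]

theorem poly_mem_fibre (hsurj : Function.Surjective q) (r : R) (hsep : ∀ x : D, (∀ k, q r ^ k ∣ x) → x = 0)
    (f : MvPolynomial (Fin 2) R) (hf : (f : PS R) ∈ Ideal.span {(C p : PS R)} ⊔ Ideal.span {rel r}) :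
    f ∈ Ideal.span {(MvPolynomial.C p : MvPolynomial (Fin 2) R)} ⊔
      Ideal.span {(MvPolynomial.X 0 * MvPolynomial.X 1 - MvPolynomial.C r : MvPolynomial (Fin 2) R)} := by
  rw [← series_span_eq hq hsurj r, Ideal.mem_comap] at hf
  have hcoe : MvPowerSeries.map q (f : PS R) = ((MvPolynomial.map q f : MvPolynomial (Fin 2) D) : PS D) := by
    ext d; simp [MvPolynomial.coeff_map]
  rw [hcoe] at hf
  have h := poly_mem_span_of_mem hsep _ hf
  have hker : RingHom.ker (MvPolynomial.map (σ := Fin 2) q) = Ideal.span {(MvPolynomial.C p : MvPolynomial (Fin 2) R)} := by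
    rw [MvPolynomial.ker_map, show RingHom.ker q = Ideal.span {p} from
      Ideal.ext fun x => by rw [RingHom.mem_ker, hq, Ideal.mem_span_singleton], Ideal.map_span, Set.image_singleton]
  rw [show (Ideal.span {(MvPolynomial.X 0 * MvPolynomial.X 1 - MvPolynomial.C (q r) : MvPolynomial (Fin 2) D)}) =
      (Ideal.span {(MvPolynomial.X 0 * MvPolynomial.X 1 - MvPolynomial.C r : MvPolynomial (Fin 2) R)}).map
        (MvPolynomial.map q) by rw [Ideal.map_span, Set.image_singleton]; simp,
    ← Ideal.mem_comap, Ideal.comap_map_of_surjective _ (MvPolynomial.map_surjective q hsurj),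
    ← RingHom.ker_eq_comap_bot, hker, sup_comm] at h
  exact h

end Branch

section Classify

variable {R T : Type u} [CommRing R] [CommRing T]

def IsFibBranch (i : R →+* T) (r : R) (x y : T) (Q : Ideal T) : Prop :=
  ∃ p : R, Prime p ∧ ((¬ p ∣ r ∧ Q = Ideal.span {i p}) ∨
    (p ∣ r ∧ (Q = Ideal.span {i p, x} ∨ Q = Ideal.span {i p, y})))

theorem fibral_iff [IsDomain R] [UniqueFactorizationMonoid R] [IsDomain T] [IsNoetherianRing T] {i : R →+* T}
    (hi : Function.Injective i) {r : R} {x y : T} (hxy : x * y = i r)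
    (hP : ∀ Q, IsFibBranch i r x y Q → Q.IsPrime)
    (hne : ∀ p, Prime p → p ∣ r → x ∉ Ideal.span {i p, y} ∧ y ∉ Ideal.span {i p, x}) (Q : Ideal T) :
    Q.IsPrime ∧ Q.height = 1 ∧ Q.comap i ≠ ⊥ ↔ IsFibBranch i r x y Q := by
  have hsub : ∀ (p : R), Prime p → ∀ J : Ideal T, J.IsPrime → i p ∈ J →
      ∃ I, IsFibBranch i r x y I ∧ I ≤ J ∧ i p ∈ I := by
    intro p hp J hJ hpJ
    by_cases hd : p ∣ r
    · have : x * y ∈ J := by
        rw [hxy]; obtain ⟨c, rfl⟩ := hd; rw [map_mul]; exact J.mul_mem_right _ hpJ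
      rcases hJ.mem_or_mem this with h | h
      · exact ⟨_, ⟨p, hp, Or.inr ⟨hd, Or.inl rfl⟩⟩,
          Ideal.span_le.2 (Set.insert_subset hpJ (Set.singleton_subset_iff.2 h)), Ideal.subset_span (Or.inl rfl)⟩
      · exact ⟨_, ⟨p, hp, Or.inr ⟨hd, Or.inr rfl⟩⟩,
          Ideal.span_le.2 (Set.insert_subset hpJ (Set.singleton_subset_iff.2 h)), Ideal.subset_span (Or.inl rfl)⟩
    · exact ⟨_, ⟨p, hp, Or.inl ⟨hd, rfl⟩⟩, Ideal.span_le.2 (Set.singleton_subset_iff.2 hpJ),
        Ideal.mem_span_singleton_self _⟩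
  constructor
  · rintro ⟨hQ, hh, hne'⟩
    haveI := hQ
    obtain ⟨p, hpQ, hp⟩ := Ideal.IsPrime.exists_mem_prime_of_ne_bot (hQ.comap i) hne'
    obtain ⟨I, hI, hle, hpI⟩ := hsub p hp Q hQ hpQ
    rcases hle.eq_or_lt with rfl | hlt
    · exact hI
    · exfalso
      haveI := hP I hI
      have h1 : I.height < 1 := hh ▸ Ideal.height_strict_mono_of_isPrime hlt
      have h0 : I.height = 0 := ENat.lt_one_iff_eq_zero.1 h1
      rw [Ideal.height_eq_zero_iff_eq_bot] at h0
      rw [h0, Ideal.mem_bot, map_eq_zero_iff _ hi] at hpI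
      exact hp.ne_zero hpI
  · intro hQ
    haveI := hP Q hQ
    obtain ⟨p, hp, hcases⟩ := hQ
    have hpQ : i p ∈ Q := by
      rcases hcases with ⟨_, rfl⟩ | ⟨_, rfl | rfl⟩ <;> exact Ideal.subset_span (by simp)
    have hip : i p ≠ 0 := (map_ne_zero_iff _ hi).2 hp.ne_zero
    refine ⟨inferInstance, le_antisymm ?_ ?_, fun h => ?_⟩
    · refine Ideal.height_le_one_of_isPrincipal_of_mem_minimalPrimes (Ideal.span {i p}) Q
        ⟨⟨inferInstance, by simpa using hpQ⟩, ?_⟩
      rintro J ⟨hJ, hpJ⟩ hJQ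
      rcases hcases with ⟨_, rfl⟩ | ⟨hd, hc⟩
      · exact hpJ
      · have hpJ' : i p ∈ J := hpJ (Ideal.mem_span_singleton_self _)
        have hm : x * y ∈ J := by
          rw [hxy]; obtain ⟨c, rfl⟩ := hd; rw [map_mul]; exact J.mul_mem_right _ hpJ'
        rcases hc with rfl | rfl
        · rcases hJ.mem_or_mem hm with h | h
          · exact Ideal.span_le.2 (Set.insert_subset hpJ' (Set.singleton_subset_iff.2 h))
          · exact absurd (hJQ h) (hne p hp hd).2
        · rcases hJ.mem_or_mem hm with h | h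
          · exact absurd (hJQ h) (hne p hp hd).1
          · exact Ideal.span_le.2 (Set.insert_subset hpJ' (Set.singleton_subset_iff.2 h))
    · rw [ENat.one_le_iff_ne_zero]
      intro h0
      rw [Ideal.height_eq_zero_iff_eq_bot] at h0
      rw [h0, Ideal.mem_bot] at hpQ
      exact hip hpQ
    · exact hp.ne_zero (by simpa [h] using (show p ∈ Q.comap i from hpQ))

end Classify

end NodeDomLib
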