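import Mathlib.RingTheory.MvPowerSeries.Trunc
import Mathlib.RingTheory.MvPowerSeries.Inverse
import Mathlib.RingTheory.Localization.Away.Basic
import Mathlib.RingTheory.Localization.Ideal
import Mathlib.RingTheory.Polynomial.Basic
import Mathlib.Algebra.Polynomial.Coeff
import Mathlib.Tactic

/-! The node ring `D[[x,y]]/(xy - r)`: diagonal sums, evaluation at nilpotents, primality. -/

set_option autoImplicit false

universe u v

namespace NodeDomLib

open MvPowerSeries

noncomputable abbrev e (a b : ℕ) : Fin 2 →₀ ℕ := Finsupp.single 0 a + Finsupp.single 1 b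

theorem e_zero (a b : ℕ) : (e a b) 0 = a := by simp [e]

theorem e_one (a b : ℕ) : (e a b) 1 = b := by simp [e]

theorem e_eta (d : Fin 2 →₀ ℕ) : e (d 0) (d 1) = d :=
  Finsupp.ext fun i => by fin_cases i <;> simp [e]

theorem e_inj {a b c d : ℕ} (h : e a b = e c d) : a = c ∧ b = d :=
  ⟨by simpa [e_zero] using congrArg (· 0) h, by simpa [e_one] using congrArg (· 1) h⟩

theorem e_le {a b c d : ℕ} : e a b ≤ e c d ↔ a ≤ c ∧ b ≤ d := by
  refine ⟨fun h => ⟨by simpa [e] using h 0, by simpa [e] using h 1⟩, fun h i => ?_⟩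
  fin_cases i <;> simp [e, h.1, h.2]

variable {D : Type u} [CommRing D] (r : D)

abbrev PS (D : Type u) := MvPowerSeries (Fin 2) D

noncomputable abbrev rel : PS D := X 0 * X 1 - C r

theorem coeff_rel_mul (g : PS D) (d : Fin 2 →₀ ℕ) :
    coeff d (rel r * g) = (if 1 ≤ d 0 ∧ 1 ≤ d 1 then coeff (e (d 0 - 1) (d 1 - 1)) g else 0) - r * coeff d g := by
  classical
  rw [rel, sub_mul, map_sub, coeff_C_mul]
  congr 1
  have hm : (X 0 * X 1 : PS D) = monomial (e 1 1) 1 := by
    rw [X, X, monomial_mul_monomial, one_mul]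
  rw [hm, coeff_monomial_mul, one_mul]
  by_cases h : 1 ≤ d 0 ∧ 1 ≤ d 1
  · have hle : e 1 1 ≤ d := by rw [← e_eta d, e_le]; exact h
    rw [if_pos h, if_pos hle]
    congr 2
    exact Finsupp.ext fun i => by fin_cases i <;> simp [e]
  · rw [if_neg h, if_neg]
    rwa [← e_eta d, e_le]

/-- a summation operator `c ↦ ∑ c k r^k` -/
def IsSer (ser : (ℕ → D) → D) : Prop := ∀ c, ser c = c 0 + r * ser fun k => c (k + 1)

variable {r}

theorem IsSer.dvd_sub {ser : (ℕ → D) → D} (hser : IsSer r ser) :
    ∀ (N : ℕ) (c : ℕ → D), r ^ N ∣ ser c - ∑ k ∈ Finset.range N, c k * r ^ k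
  | 0, c => by simp
  | N + 1, c => by
    obtain ⟨q, hq⟩ := hser.dvd_sub N fun k => c (k + 1)
    refine ⟨q, ?_⟩
    rw [Finset.sum_range_succ', hser c]
    have : ∑ k ∈ Finset.range N, c (k + 1) * r ^ (k + 1) = r * ∑ k ∈ Finset.range N, c (k + 1) * r ^ k := by
      rw [Finset.mul_sum]
      exact Finset.sum_congr rfl fun k _ => by ring
    rw [this, pow_succ, pow_zero, mul_one]
    linear_combination r * hq

theorem mem_span_of_diag {ser : (ℕ → D) → D} (hser : IsSer r ser) (f : PS D)
    (h0 : ∀ n, ser (fun c => coeff (e (n + c) c) f) = 0)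
    (h1 : ∀ n, ser (fun c => coeff (e c (n + c)) f) = 0) :
    f ∈ Ideal.span {rel r} := by
  classical
  let g : PS D := fun d => ser fun c => coeff (e (d 0 + 1 + c) (d 1 + 1 + c)) f
  have hg : ∀ a b, coeff (e a b) g = ser fun c => coeff (e (a + 1 + c) (b + 1 + c)) f := by
    intro a b
    show g (e a b) = _
    simp only [g, e_zero, e_one]
  refine Ideal.mem_span_singleton.2 ⟨g, MvPowerSeries.ext fun d => ?_⟩
  rw [coeff_rel_mul, ← e_eta d]
  simp only [e_zero, e_one]
  generalize d 0 = a
  generalize d 1 = b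
  have hcongr : ∀ (a b a' b' : ℕ → ℕ), (∀ c, a c = a' c) → (∀ c, b c = b' c) →
      (fun c => coeff (e (a c) (b c)) f) = fun c => coeff (e (a' c) (b' c)) f := by
    intro a b a' b' h1 h2
    funext c
    rw [h1, h2]
  by_cases h : 1 ≤ a ∧ 1 ≤ b
  · rw [if_pos h, hg, hg]
    obtain ⟨a, rfl⟩ : ∃ a', a = a' + 1 := ⟨a - 1, by omega⟩
    obtain ⟨b, rfl⟩ : ∃ b', b = b' + 1 := ⟨b - 1, by omega⟩
    simp only [Nat.add_sub_cancel]
    rw [hser fun c => coeff (e (a + 1 + c) (b + 1 + c)) f]
    beta_reduce
    rw [hcongr (fun c => a + 1 + (c + 1)) (fun c => b + 1 + (c + 1)) (fun c => a + 1 + 1 + c)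
      (fun c => b + 1 + 1 + c) (fun c => by omega) (fun c => by omega), add_sub_cancel_right, add_zero, add_zero]
  · rw [if_neg h, hg, zero_sub, eq_neg_iff_add_eq_zero]
    rcases Nat.eq_zero_or_pos b with rfl | hb
    · have := h0 a
      rw [hser] at this
      beta_reduce at this
      rw [hcongr (fun c => a + (c + 1)) (fun c => c + 1) (fun c => a + 1 + c) (fun c => 0 + 1 + c)
        (fun c => by omega) (fun c => by omega), add_zero] at this
      exact this
    · obtain rfl : a = 0 := by omega
      have := h1 b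
      rw [hser] at this
      beta_reduce at this
      rw [hcongr (fun c => c + 1) (fun c => b + (c + 1)) (fun c => 0 + 1 + c) (fun c => b + 1 + c)
        (fun c => by omega) (fun c => by omega), add_zero] at this
      exact this

/-- polynomial multiples of `xy - r` -/
theorem poly_mem_span_of_mem (hsep : ∀ x : D, (∀ k, r ^ k ∣ x) → x = 0) (f : MvPolynomial (Fin 2) D)
    (hf : (f : PS D) ∈ Ideal.span {rel r}) :
    f ∈ Ideal.span {(MvPolynomial.X 0 * MvPolynomial.X 1 - MvPolynomial.C r : MvPolynomial (Fin 2) D)} := by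
  classical
  obtain ⟨g, hg⟩ := Ideal.mem_span_singleton.1 hf
  let M := f.totalDegree
  have hbig : ∀ a b, M ≤ a → coeff (e a b) g = 0 := by
    have step : ∀ a b, M ≤ a → coeff (e a b) g = r * coeff (e (a + 1) (b + 1)) g := by
      intro a b ha
      have := congrArg (coeff (e (a + 1) (b + 1))) hg
      rw [coeff_rel_mul, MvPolynomial.coeff_coe] at this
      simp only [e_zero, e_one] at this
      rw [if_pos ⟨by omega, by omega⟩, Nat.add_sub_cancel, Nat.add_sub_cancel] at this
      rw [MvPolynomial.coeff_eq_zero_of_totalDegree_lt] at this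
      · linear_combination -this
      · calc f.totalDegree < a + 1 + (b + 1) := by omega
          _ = _ := by
            rw [← Finsupp.degree_apply, e, map_add, Finsupp.degree_single, Finsupp.degree_single]
    intro a b ha
    refine hsep _ fun k => ?_
    suffices ∀ k a b, M ≤ a → r ^ k ∣ coeff (e a b) g from this k a b ha
    intro k
    induction k with
    | zero => simp
    | succ k ih =>
      intro a b ha
      rw [step a b ha, pow_succ']
      exact mul_dvd_mul_left _ (ih _ _ (by omega))
  have hbig' : ∀ a b, M ≤ b → coeff (e a b) g = 0 := by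
    have step : ∀ a b, M ≤ b → coeff (e a b) g = r * coeff (e (a + 1) (b + 1)) g := by
      intro a b ha
      have := congrArg (coeff (e (a + 1) (b + 1))) hg
      rw [coeff_rel_mul, MvPolynomial.coeff_coe] at this
      simp only [e_zero, e_one] at this
      rw [if_pos ⟨by omega, by omega⟩, Nat.add_sub_cancel, Nat.add_sub_cancel] at this
      rw [MvPolynomial.coeff_eq_zero_of_totalDegree_lt] at this
      · linear_combination -this
      · calc f.totalDegree < a + 1 + (b + 1) := by omega
          _ = _ := by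
            rw [← Finsupp.degree_apply, e, map_add, Finsupp.degree_single, Finsupp.degree_single]
    intro a b ha
    refine hsep _ fun k => ?_
    suffices ∀ k a b, M ≤ b → r ^ k ∣ coeff (e a b) g from this k a b ha
    intro k
    induction k with
    | zero => simp
    | succ k ih =>
      intro a b ha
      rw [step a b ha, pow_succ']
      exact mul_dvd_mul_left _ (ih _ _ (by omega))
  have hg' : ((trunc' D (e M M) g : MvPolynomial (Fin 2) D) : PS D) = g := by
    ext d
    rw [MvPolynomial.coeff_coe, coeff_trunc']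
    split_ifs with h
    · rfl
    · rw [← e_eta d]
      rcases Nat.lt_or_ge M (d 0) with h0 | h0
      · exact (hbig _ _ h0.le).symm
      · rcases Nat.lt_or_ge M (d 1) with h1 | h1
        · exact (hbig' _ _ h1.le).symm
        · exact absurd (fun i => by fin_cases i <;> simpa [e]) h
  refine Ideal.mem_span_singleton.2 ⟨trunc' D (e M M) g, MvPolynomial.coe_injective _ _ ?_⟩
  rw [MvPolynomial.coe_mul, hg', hg]
  congr 1
  rw [← MvPolynomial.coeToMvPowerSeries.ringHom_apply, map_sub, map_mul]
  simp [rel]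

section Eval

variable {T : Type v} [CommRing T] (φ : D →+* T) (a b : T)

/-- evaluation of the truncation at `(N, N)` -/
noncomputable def evT (N : ℕ) (f : PS D) : T :=
  MvPolynomial.eval₂Hom φ ![a, b] (trunc' D (e N N) f)

variable {φ a b}

theorem eval_eq_zero {N : ℕ} (ha : a ^ N = 0) (hb : b ^ N = 0) (p : MvPolynomial (Fin 2) D)
    (hp : ∀ m ≤ e N N, p.coeff m = 0) : MvPolynomial.eval₂Hom φ ![a, b] p = 0 := by
  rw [MvPolynomial.coe_eval₂Hom, MvPolynomial.eval₂_eq']
  refine Finset.sum_eq_zero fun m hm => ?_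
  by_cases h : m ≤ e N N
  · rw [MvPolynomial.mem_support_iff] at hm
    exact absurd (hp m h) hm
  · rw [Fin.prod_univ_two]
    simp only [Matrix.cons_val_zero, Matrix.cons_val_one]
    have : N ≤ m 0 ∨ N ≤ m 1 := by
      by_contra hc
      push Not at hc
      exact h fun i => by fin_cases i <;> simp [e, hc.1.le, hc.2.le]
    rcases this with h | h <;> simp [pow_eq_zero_of_le h, ha, hb]

theorem evT_eq_of_le {N M : ℕ} (ha : a ^ N = 0) (hb : b ^ N = 0) (h : N ≤ M) (f : PS D) :
    evT φ a b M f = evT φ a b N f := by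
  rw [evT, evT, ← sub_eq_zero, ← map_sub]
  refine eval_eq_zero ha hb _ fun m hm => ?_
  rw [MvPolynomial.coeff_sub, coeff_trunc', coeff_trunc', if_pos hm, if_pos, sub_self]
  exact hm.trans fun i => by fin_cases i <;> simp [e, h]

variable (φ) in
noncomputable def evHom (N : ℕ) (ha : a ^ N = 0) (hb : b ^ N = 0) : PS D →+* T where
  toFun := evT φ a b N
  map_one' := by rw [evT, trunc'_one, map_one]
  map_zero' := by rw [evT, map_zero, map_zero]
  map_add' f g := by rw [evT, map_add, map_add]; rfl
  map_mul' f g := by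
    show evT φ a b N (f * g) = _
    rw [evT, evT, evT, ← map_mul, ← sub_eq_zero, ← map_sub]
    refine eval_eq_zero ha hb _ fun m hm => ?_
    rw [MvPolynomial.coeff_sub, coeff_trunc', if_pos hm, coeff_trunc'_mul_trunc'_eq_coeff_mul _ _ _ hm,
      sub_self]

theorem map_evT {T' : Type v} [CommRing T'] (π : T →+* T') (N : ℕ) (f : PS D) :
    π (evT φ a b N f) = evT (π.comp φ) (π a) (π b) N f := by
  rw [evT, evT, MvPolynomial.map_eval₂Hom]
  congr 2
  funext i
  fin_cases i <;> simp

theorem evT_eq_sum (N : ℕ) (f : PS D) : evT φ a b N f =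
    ∑ i ∈ Finset.range (N + 1), ∑ j ∈ Finset.range (N + 1), φ (coeff (e i j) f) * a ^ i * b ^ j := by
  classical
  have : trunc' D (e N N) f = ∑ i ∈ Finset.range (N + 1), ∑ j ∈ Finset.range (N + 1),
      MvPolynomial.monomial (e i j) (coeff (e i j) f) := by
    ext d
    simp only [MvPolynomial.coeff_sum, MvPolynomial.coeff_monomial, coeff_trunc']
    rw [← e_eta d]
    by_cases hd : d 0 ≤ N ∧ d 1 ≤ N
    · rw [if_pos (e_le.2 hd),
        Finset.sum_eq_single_of_mem (d 0) (by simp [hd.1]),
        Finset.sum_eq_single_of_mem (d 1) (by simp [hd.2]), if_pos rfl]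
      · exact fun j _ hj => if_neg fun h => hj (e_inj h).2
      · exact fun i _ hi => Finset.sum_eq_zero fun j _ => if_neg fun h => hi (e_inj h).1
    · rw [if_neg (fun h => hd (e_le.1 h))]
      refine (Finset.sum_eq_zero fun i hi => Finset.sum_eq_zero fun j hj => if_neg fun h => ?_).symm
      rw [Finset.mem_range] at hi hj
      obtain ⟨rfl, rfl⟩ := e_inj h
      omega
  rw [evT, this, map_sum]
  simp_rw [map_sum, MvPolynomial.eval₂Hom_monomial]
  refine Finset.sum_congr rfl fun i _ => Finset.sum_congr rfl fun j _ => ?_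
  rw [Finsupp.prod_fintype _ _ (fun _ => pow_zero _), Fin.prod_univ_two, e_zero, e_one]
  simp [mul_assoc]

end Eval

theorem pow_dvd_or {W : Type v} [CommRing W] [IsDomain W] {ρ : W} (hρ : Prime ρ) :
    ∀ (i j : ℕ) (x y : W), ρ ^ (i + j) ∣ x * y → ρ ^ i ∣ x ∨ ρ ^ j ∣ y
  | 0, _, _, _, _ => Or.inl (by simp)
  | i + 1, j, x, y, h => by
    by_cases hx : ρ ∣ x
    · obtain ⟨x', rfl⟩ := hx
      rw [show i + 1 + j = (i + j) + 1 by omega, pow_succ', mul_assoc] at h
      rcases pow_dvd_or hρ i j x' y ((mul_dvd_mul_iff_left hρ.ne_zero).1 h) with h' | h'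
      · exact Or.inl (by rw [pow_succ']; exact mul_dvd_mul_left _ h')
      · exact Or.inr h'
    · exact Or.inr ((pow_dvd_pow _ (by omega)).trans (hρ.pow_dvd_of_dvd_mul_left _ hx h))

theorem span_rel_isPrime {W : Type u} [CommRing W] [IsDomain W] (φ : D →+* W) (hφ : Function.Injective φ)
    {ρ σ : W} (hρ : Prime ρ) (hρσ : ρ ∣ σ) (hσ : σ ≠ 0) (hr : φ r = ρ * σ)
    (hsep : ∀ x : W, (∀ N, ρ ^ N ∣ x) → x = 0) {ser : (ℕ → D) → D} (hser : IsSer r ser) :
    (Ideal.span {rel r}).IsPrime := by
  classical
  let T := Localization.Away (Polynomial.X : Polynomial W)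
  let α : Polynomial W →+* T := algebraMap _ _
  let t : T := α Polynomial.X
  let s : T := IsLocalization.Away.invSelf (Polynomial.X : Polynomial W)
  have hts : t * s = 1 := IsLocalization.Away.mul_invSelf (Polynomial.X : Polynomial W)
  have hle : Submonoid.powers (Polynomial.X : Polynomial W) ≤ nonZeroDivisors _ :=
    powers_le_nonZeroDivisors_of_noZeroDivisors Polynomial.X_ne_zero
  haveI : IsDomain T := IsLocalization.isDomain_localization hle
  let ρ' : T := α (Polynomial.C ρ)
  let σ' : T := α (Polynomial.C σ)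
  let φ' : D →+* T := α.comp (Polynomial.C.comp φ)
  let u : T := ρ' * t
  let w : T := σ' * s
  have hdisj : Disjoint ((Submonoid.powers (Polynomial.X : Polynomial W) : Submonoid _) : Set (Polynomial W))
      (Ideal.span {Polynomial.C ρ} : Ideal (Polynomial W)) := by
    rw [Set.disjoint_left]
    rintro _ ⟨k, rfl⟩ hk
    rw [SetLike.mem_coe, Ideal.mem_span_singleton, Polynomial.C_dvd_iff_dvd_coeff] at hk
    exact hρ.not_unit (isUnit_of_dvd_one (by simpa using hk k))
  have hCρ : Prime (Polynomial.C ρ) := Polynomial.prime_C_iff.2 hρ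
  have hρ' : Prime ρ' := by
    have h0 : ρ' ≠ 0 := (map_ne_zero_iff _ (IsLocalization.injective T hle)).2 (by simpa using hρ.ne_zero)
    rw [← Ideal.span_singleton_prime h0]
    have := IsLocalization.isPrime_of_isPrime_disjoint (Submonoid.powers (Polynomial.X : Polynomial W)) T
      (Ideal.span {Polynomial.C ρ}) ((Ideal.span_singleton_prime hCρ.ne_zero).2 hCρ) hdisj
    rwa [Ideal.map_span, Set.image_singleton] at this
  have hdvd : ∀ (N : ℕ) (F : Polynomial W), ρ' ^ N ∣ α F → ∀ k, ρ ^ N ∣ F.coeff k := by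
    intro N F hF k
    obtain ⟨z, hz⟩ := hF
    obtain ⟨⟨G, ⟨_, l, rfl⟩⟩, hG⟩ := IsLocalization.surj (Submonoid.powers (Polynomial.X : Polynomial W)) z
    have h : F * Polynomial.X ^ l = Polynomial.C (ρ ^ N) * G := by
      apply IsLocalization.injective T hle
      have hG' : z * α (Polynomial.X ^ l) = α G := hG
      change α (F * Polynomial.X ^ l) = α (Polynomial.C (ρ ^ N) * G)
      rw [map_mul, map_mul, hz, mul_assoc, hG', Polynomial.C_pow, map_pow]
    have := congrArg (fun p => p.coeff (k + l)) h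
    simp only [Polynomial.coeff_mul_X_pow, Polynomial.coeff_C_mul] at this
    exact ⟨_, this⟩
  let Q (N : ℕ) := T ⧸ Ideal.span {ρ' ^ N}
  let q (N : ℕ) : T →+* Q N := Ideal.Quotient.mk _
  have hq : ∀ N x, q N x = 0 ↔ ρ' ^ N ∣ x := fun N x =>
    Ideal.Quotient.eq_zero_iff_mem.trans Ideal.mem_span_singleton
  have hρσ' : ρ' ∣ σ' := map_dvd α (map_dvd Polynomial.C hρσ)
  have hu : ∀ N, (q N u) ^ N = 0 := fun N => by
    rw [← map_pow, hq]; exact pow_dvd_pow_of_dvd ⟨t, rfl⟩ N
  have hw : ∀ N, (q N w) ^ N = 0 := fun N => by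
    rw [← map_pow, hq]; exact pow_dvd_pow_of_dvd (hρσ'.trans ⟨s, rfl⟩) N
  let E (N : ℕ) : PS D →+* Q N := evHom ((q N).comp φ') N (hu N) (hw N)
  have hE : ∀ N f, E N f = q N (evT φ' u w N f) := fun N f => (map_evT (q N) N f).symm
  have hrel : ∀ N, E N (rel r) = 0 := by
    intro N
    rw [hE, hq]
    rcases Nat.eq_zero_or_pos N with rfl | hN
    · simp
    have : evT φ' u w N (rel r) = 0 := by
      rw [evT]
      have h1 : trunc' D (e N N) (rel r) =
          MvPolynomial.X 0 * MvPolynomial.X 1 - MvPolynomial.C r := by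
        rw [rel, map_sub, trunc'_C]
        congr 1
        rw [X, X, monomial_mul_monomial, one_mul]
        ext d
        rw [coeff_trunc', MvPolynomial.X, MvPolynomial.X, MvPolynomial.monomial_mul, one_mul,
          MvPolynomial.coeff_monomial, coeff_monomial]
        by_cases hd : e 1 1 = d
        · subst hd
          rw [if_pos (e_le.2 ⟨hN, hN⟩)]
        · simp [hd, Ne.symm hd]
      rw [h1, map_sub, map_mul, MvPolynomial.eval₂Hom_X', MvPolynomial.eval₂Hom_X', MvPolynomial.eval₂Hom_C]
      simp only [Matrix.cons_val_zero, Matrix.cons_val_one]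
      show ρ' * t * (σ' * s) - α (Polynomial.C (φ r)) = 0
      rw [hr, map_mul, map_mul]
      change ρ' * t * (σ' * s) - ρ' * σ' = 0
      linear_combination (ρ' * σ') * hts
    rw [this]; exact dvd_zero _
  have key : ∀ f, (∀ N, E N f = 0) → f ∈ Ideal.span {rel r} := by
    intro f hf
    have hF : ∀ N k, ρ ^ N ∣ (∑ i ∈ Finset.range (N + 1), ∑ j ∈ Finset.range (N + 1),
        Polynomial.C (φ (coeff (e i j) f) * ρ ^ i * σ ^ j) * Polynomial.X ^ (i + (N - j))).coeff k := by
      intro N
      apply hdvd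
      have hd : ρ' ^ N ∣ evT φ' u w N f := (hq N _).1 ((hE N f) ▸ hf N)
      convert hd.mul_right (t ^ N) using 1
      rw [evT_eq_sum, Finset.sum_mul, map_sum]
      refine Finset.sum_congr rfl fun i _ => ?_
      rw [Finset.sum_mul, map_sum]
      refine Finset.sum_congr rfl fun j hj => ?_
      rw [Finset.mem_range] at hj
      have hN : t ^ N = t ^ (N - j) * t ^ j := by rw [← pow_add]; congr 1; omega
      have hts' : t ^ j * s ^ j = 1 := by rw [← mul_pow, hts, one_pow]
      simp only [map_mul, map_pow, Polynomial.C_mul, Polynomial.C_pow, pow_add]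
      change _ = α (Polynomial.C (φ (coeff (e i j) f))) * (ρ' * t) ^ i * (σ' * s) ^ j * t ^ N
      rw [hN]
      linear_combination (- (α (Polynomial.C (φ (coeff (e i j) f))) * ρ' ^ i * t ^ i * σ' ^ j * t ^ (N - j))) * hts'
    have hpart : ∀ (c : ℕ → D) M, ρ ^ M ∣ φ (ser c) - φ (∑ k ∈ Finset.range M, c k * r ^ k) := by
      intro c M
      rw [← map_sub]
      refine dvd_trans ?_ (map_dvd φ (hser.dvd_sub M c))
      rw [map_pow, hr]
      exact pow_dvd_pow_of_dvd (Dvd.intro _ rfl) M
    refine mem_span_of_diag hser f (fun n => hφ ?_) (fun n => hφ ?_)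
    · rw [map_zero]
      refine (mul_eq_zero.1 (hsep (ρ ^ n * φ (ser fun c => coeff (e (n + c) c) f)) fun N => ?_)).resolve_left
        (pow_ne_zero _ hρ.ne_zero)
      have h := hF (N + n) (n + (N + n))
      rw [Finset.sum_comm, Polynomial.finset_sum_coeff] at h
      simp only [Polynomial.finset_sum_coeff, Polynomial.coeff_C_mul, Polynomial.coeff_X_pow, mul_ite,
        mul_one, mul_zero] at h
      have hsum : ∑ j ∈ Finset.range (N + n + 1), ∑ i ∈ Finset.range (N + n + 1),
          (if n + (N + n) = i + (N + n - j) then φ (coeff (e i j) f) * ρ ^ i * σ ^ j else 0) =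
          ρ ^ n * φ (∑ k ∈ Finset.range (N + 1), coeff (e (n + k) k) f * r ^ k) := by
        rw [map_sum, Finset.mul_sum]
        have hsub : Finset.range (N + 1) ⊆ Finset.range (N + n + 1) := Finset.range_mono (by omega)
        rw [← Finset.sum_subset hsub (fun j hj hj' => ?_)]
        · refine Finset.sum_congr rfl fun j hj => ?_
          rw [Finset.mem_range] at hj
          rw [Finset.sum_eq_single_of_mem (n + j) (Finset.mem_range.2 (by omega)), if_pos (by omega),
            map_mul, map_pow, hr, pow_add]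
          · ring
          · exact fun i _ hi => if_neg (by omega)
        · rw [Finset.mem_range] at hj hj'
          exact Finset.sum_eq_zero fun i hi => if_neg (by rw [Finset.mem_range] at hi; omega)
      rw [hsum] at h
      have h2 := mul_dvd_mul_left (ρ ^ n) (hpart (fun c => coeff (e (n + c) c) f) (N + 1))
      have h3 : ρ ^ N ∣ ρ ^ n * ρ ^ (N + 1) := by rw [← pow_add]; exact pow_dvd_pow _ (by omega)
      have := dvd_add ((pow_dvd_pow ρ (by omega : N ≤ N + n)).trans h) (h3.trans h2)
      rwa [← mul_add, add_sub_cancel] at this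
    · rw [map_zero]
      refine (mul_eq_zero.1 (hsep (σ ^ n * φ (ser fun c => coeff (e c (n + c)) f)) fun N => ?_)).resolve_left
        (pow_ne_zero _ hσ)
      have h := hF (N + n) N
      simp only [Polynomial.finset_sum_coeff, Polynomial.coeff_C_mul, Polynomial.coeff_X_pow, mul_ite,
        mul_one, mul_zero] at h
      have hsum : ∑ i ∈ Finset.range (N + n + 1), ∑ j ∈ Finset.range (N + n + 1),
          (if N = i + (N + n - j) then φ (coeff (e i j) f) * ρ ^ i * σ ^ j else 0) =
          σ ^ n * φ (∑ k ∈ Finset.range (N + 1), coeff (e k (n + k)) f * r ^ k) := by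
        rw [map_sum, Finset.mul_sum]
        have hsub : Finset.range (N + 1) ⊆ Finset.range (N + n + 1) := Finset.range_mono (by omega)
        rw [← Finset.sum_subset hsub (fun i hi hi' => ?_)]
        · refine Finset.sum_congr rfl fun i hi => ?_
          rw [Finset.mem_range] at hi
          rw [Finset.sum_eq_single_of_mem (n + i) (Finset.mem_range.2 (by omega)), if_pos (by omega),
            map_mul, map_pow, hr, pow_add]
          · ring
          · exact fun j hj' hj => if_neg (by rw [Finset.mem_range] at hj'; omega)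
        · rw [Finset.mem_range] at hi hi'
          exact Finset.sum_eq_zero fun j hj => if_neg (by rw [Finset.mem_range] at hj; omega)
      rw [hsum] at h
      have h2 := mul_dvd_mul_left (σ ^ n) (hpart (fun c => coeff (e c (n + c)) f) (N + 1))
      have h3 : ρ ^ N ∣ σ ^ n * ρ ^ (N + 1) := (pow_dvd_pow _ (by omega)).trans (dvd_mul_left _ _)
      have := dvd_add ((pow_dvd_pow ρ (by omega : N ≤ N + n)).trans h) (h3.trans h2)
      rwa [← mul_add, add_sub_cancel] at this
  have hE0 : ∀ f ∈ Ideal.span {rel r}, ∀ N, E N f = 0 := by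
    intro f hf N
    obtain ⟨g, rfl⟩ := Ideal.mem_span_singleton.1 hf
    rw [map_mul, hrel, zero_mul]
  constructor
  · intro h
    have := hE0 1 (h ▸ Submodule.mem_top) 1
    rw [map_one] at this
    exact hρ'.not_unit (isUnit_of_dvd_one (by
      have h' : q 1 1 = 0 := by rw [map_one]; exact this
      simpa using (hq 1 1).1 h'))
  · intro f g hfg
    by_contra hc
    push Not at hc
    obtain ⟨N, hN⟩ := not_forall.1 (mt (key f) hc.1)
    obtain ⟨M, hM⟩ := not_forall.1 (mt (key g) hc.2)
    have hlift : ∀ f N L, N ≤ L → E N f ≠ 0 → ¬ ρ' ^ N ∣ evT φ' u w L f := by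
      intro f N L hL hne hd
      apply hne
      have hev := evT_eq_of_le (φ := (q N).comp φ') (hu N) (hw N) hL f
      rw [← map_evT, (hq N _).2 hd] at hev
      exact hev.symm
    have h := hE0 _ hfg (N + M)
    rw [map_mul, hE, hE, ← map_mul, hq] at h
    rcases pow_dvd_or hρ' N M _ _ h with h | h
    · exact hlift f N _ (by omega) hN h
    · exact hlift g M _ (by omega) hM h

end NodeDomLib
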